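import Groth.Agent.EtAlg.K405.Ctx
import Mathlib.RingTheory.Trace.Basic
import Mathlib.FieldTheory.Extension

/-!
# Node N8 of the refutation of S7162: separable extensions are totally ramified

`N ≤ N'` subfields of `Ω` above `K`, `N'` separable over `N`, both discretely valued, `N` with the residue field
of `Ω`, `‖π‖ = ‖π'‖ ^ e`. Then `V = span_N (1, π', …, π'^(e-1))` is dense in `N'` (residue field and value group),
and a dense `N`-subspace of a finite separable extension is everything (continuity of the trace form), so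
`[N' : N] ≤ e`, and `N' = N(π')` also when finiteness is not assumed.
-/

set_option autoImplicit false

namespace Groth.Agent.EtAlg.K458.RefN8

open Groth.Agent.Etalg.EppFrame Groth.Agent.EtAlg.K405 Polynomial

variable {Ω : Type} [NormedField Ω] [IsUltrametricDist Ω] [IsAlgClosed Ω] [CharP Ω 2] (C : Ctx Ω)

include C

omit [IsUltrametricDist Ω] [CharP Ω 2] in
/-- embeddings over a subfield above `K` are isometric -/
theorem norm_embedding {N : Subfield Ω} (hK : C.K ≤ N) (E : IntermediateField N Ω) (σ : E →ₐ[N] Ω) (x : E) :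
    ‖σ x‖ = ‖(x : Ω)‖ := by
  have halg : Algebra.IsAlgebraic N Ω := ⟨fun y => isAlgebraic_mono hK (C.alg y)⟩
  obtain ⟨φ, hφ⟩ := IntermediateField.exists_algHom_of_splits (F := N) (E := Ω) (K := Ω)
    (fun s => ⟨(Algebra.IsAlgebraic.isAlgebraic s).isIntegral, IsAlgClosed.splits _⟩) σ
  have hbij : Function.Bijective φ := Algebra.IsAlgebraic.algHom_bijective φ
  let τ : Ω ≃ₐ[N] Ω := AlgEquiv.ofBijective φ hbij
  let τK : Ω ≃ₐ[C.K] Ω := AlgEquiv.ofRingEquiv (f := (τ : Ω ≃+* Ω)) (fun c => by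
    exact τ.commutes (⟨c, hK c.2⟩ : N))
  have h1 := C.inv τK (x : Ω)
  have h2 : σ x = φ (x : Ω) := by
    rw [← hφ]; rfl
  rw [h2]
  exact h1

omit [CharP Ω 2] in
/-- the trace is continuous -/
theorem norm_trace_le {N : Subfield Ω} (hK : C.K ≤ N) (E : IntermediateField N Ω) [FiniteDimensional N E]
    [Algebra.IsSeparable N E] (x : E) : ‖((Algebra.trace N E x : N) : Ω)‖ ≤ ‖(x : Ω)‖ := by
  have h1 : ((Algebra.trace N E x : N) : Ω) = ∑ σ : E →ₐ[N] Ω, σ x :=
    trace_eq_sum_embeddings (K := N) (L := E) Ω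
  rw [h1]
  refine IsUltrametricDist.norm_sum_le_of_forall_le_of_nonneg (norm_nonneg _) (fun σ _ => ?_)
  exact (norm_embedding C hK E σ x).le

omit [CharP Ω 2] in
/-- a dense subspace of a finite separable extension is everything -/
theorem mem_of_dense {N : Subfield Ω} (hK : C.K ≤ N) (E : IntermediateField N Ω) [FiniteDimensional N E]
    [Algebra.IsSeparable N E] (V : Submodule N Ω) (hVE : ∀ v ∈ V, v ∈ E)
    (hd : ∀ x ∈ E, ∀ ε : ℝ, 0 < ε → ∃ v ∈ V, ‖x - v‖ < ε) : ∀ x ∈ E, x ∈ V := by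
  by_contra hcon
  let V' : Submodule N E := V.comap (E.val.toLinearMap)
  have hV' : V' < ⊤ := by
    rw [lt_top_iff_ne_top]
    intro htop
    refine hcon fun x hx => ?_
    have h1 : (⟨x, hx⟩ : E) ∈ V' := by rw [htop]; trivial
    exact h1
  obtain ⟨f, hf0, hf⟩ := Submodule.exists_le_ker_of_lt_top V' hV'
  have hnd := traceForm_nondegenerate N E
  set c : E := ((Algebra.traceForm N E).toDual hnd).symm f with hc
  have hfc : ∀ y : E, f y = Algebra.trace N E (c * y) := fun y => by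
    rw [hc, ← Algebra.traceForm_apply, LinearMap.BilinForm.apply_toDual_symm_apply]
  apply hf0
  ext y
  have h0 : ∀ ε : ℝ, 0 < ε → ‖((f y : N) : Ω)‖ ≤ ‖(c : Ω)‖ * ε := by
    intro ε hε
    obtain ⟨v, hv, hyv⟩ := hd y y.2 ε hε
    have hvE := hVE v hv
    have hvker : f ⟨v, hvE⟩ = 0 := hf (show (⟨v, hvE⟩ : E) ∈ V' from hv)
    have h2 : f y = Algebra.trace N E (c * (y - ⟨v, hvE⟩)) := by
      rw [← hfc, map_sub, hvker, sub_zero]
    rw [h2]
    refine (norm_trace_le C hK E _).trans ?_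
    have h3 : ((c * (y - ⟨v, hvE⟩) : E) : Ω) = (c : Ω) * ((y : Ω) - v) := rfl
    rw [h3, norm_mul]
    exact mul_le_mul_of_nonneg_left hyv.le (norm_nonneg _)
  have h1 : ‖((f y : N) : Ω)‖ ≤ 0 := by
    refine le_of_forall_pos_le_add fun ε hε => ?_
    rw [zero_add]
    have h4 : (0 : ℝ) < ‖(c : Ω)‖ + 1 := by positivity
    refine (h0 (ε / (‖(c : Ω)‖ + 1)) (by positivity)).trans ?_
    rw [mul_div_assoc', div_le_iff₀ h4]
    nlinarith [norm_nonneg (c : Ω)]
  rw [norm_le_zero_iff] at h1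
  simpa using h1

omit C [IsAlgClosed Ω] [CharP Ω 2] [IsUltrametricDist Ω] in
/-- one step of the approximation -/
theorem exists_step {N N' : Subfield Ω} (hN : N ≤ N') {π π' : Ω} (hπ : π ∈ N) (hd : Disc N π) (hπ' : π' ∈ N')
    (hd' : Disc N' π') {e : ℕ} (he : ‖π‖ = ‖π'‖ ^ e) (hres : ResFull N) (x : Ω) (hx : x ∈ N') :
    ∃ v ∈ Submodule.span N (Set.range fun i : Fin e => π' ^ (i : ℕ)), ‖x - v‖ ≤ ‖π'‖ * ‖x‖ ∧ v ∈ N' := by
  by_cases hx0 : x = 0
  · exact ⟨0, Submodule.zero_mem _, by simp [hx0], N'.zero_mem⟩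
  have he0 : e ≠ 0 := by
    rintro rfl
    rw [pow_zero] at he
    exact absurd he hd.2.1.ne
  obtain ⟨n, hn⟩ := hd'.2.2 x hx hx0
  have hπ0 : π ≠ 0 := norm_pos_iff.1 hd.1
  have hπ'0 : π' ≠ 0 := norm_pos_iff.1 hd'.1
  have hez : (0 : ℤ) < e := by exact_mod_cast Nat.pos_of_ne_zero he0
  set a : ℤ := n / e with ha
  obtain ⟨b, hb⟩ := Int.eq_ofNat_of_zero_le (Int.emod_nonneg n hez.ne')
  have hbe : b < e := by
    have := Int.emod_lt_of_pos n hez
    omega
  have hnab : (n : ℤ) = e * a + b := by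
    rw [ha, ← hb]; exact (Int.mul_ediv_add_emod n e).symm
  set w : Ω := π ^ a * π' ^ b with hw
  have hwN : ‖w‖ = ‖x‖ := by
    rw [hw, norm_mul, norm_zpow, norm_pow, he, hn, hnab, zpow_add₀ hd'.1.ne', zpow_mul, zpow_natCast, zpow_natCast]
  have hw0 : w ≠ 0 := by
    rw [hw]; exact mul_ne_zero (zpow_ne_zero _ hπ0) (pow_ne_zero _ hπ'0)
  obtain ⟨c, hc, hxc⟩ := hres (x / w) (by
    rw [norm_div, hwN, div_self (norm_ne_zero_iff.2 hx0)])
  have hv : c * w ∈ Submodule.span N (Set.range fun i : Fin e => π' ^ (i : ℕ)) := by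
    have h1 : c * w = (⟨c * π ^ a, N.mul_mem hc (N.zpow_mem hπ a)⟩ : N) • π' ^ b := by
      rw [Subfield.smul_def, hw]
      simp only [smul_eq_mul]
      ring
    rw [h1]
    exact Submodule.smul_mem _ _ (Submodule.subset_span ⟨⟨b, hbe⟩, rfl⟩)
  have hwN' : w ∈ N' := N'.mul_mem (N'.zpow_mem (hN hπ) a) (N'.pow_mem hπ' b)
  have hvN' : c * w ∈ N' := N'.mul_mem (hN hc) hwN'
  refine ⟨c * w, hv, ?_, hvN'⟩
  have h2 : ‖x - c * w‖ < ‖x‖ := by
    have h3 : x - c * w = (x / w - c) * w := by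
      rw [sub_mul, div_mul_cancel₀ _ hw0]
    rw [h3, norm_mul, hwN]
    calc ‖x / w - c‖ * ‖x‖ < 1 * ‖x‖ := by
          exact mul_lt_mul_of_pos_right hxc (norm_pos_iff.2 hx0)
      _ = ‖x‖ := one_mul _
  by_cases h0 : x - c * w = 0
  · rw [h0, norm_zero]; positivity
  · obtain ⟨m, hm⟩ := hd'.2.2 _ (N'.sub_mem hx hvN') h0
    rw [hm, hn] at h2 ⊢
    have h4 : n < m := (zpow_lt_zpow_iff_right_of_lt_one₀ hd'.1 hd'.2.1).1 h2
    calc ‖π'‖ ^ m ≤ ‖π'‖ ^ (1 + n) := zpow_le_zpow_right_of_le_one₀ hd'.1 hd'.2.1.le (by omega)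
      _ = ‖π'‖ * ‖π'‖ ^ n := by rw [zpow_add₀ hd'.1.ne', zpow_one]

omit C [IsAlgClosed Ω] [CharP Ω 2] [IsUltrametricDist Ω] in
/-- `span_N (1, π', …, π'^(e-1))` is dense in `N'` -/
theorem exists_approx {N N' : Subfield Ω} (hN : N ≤ N') {π π' : Ω} (hπ : π ∈ N) (hd : Disc N π) (hπ' : π' ∈ N')
    (hd' : Disc N' π') {e : ℕ} (he : ‖π‖ = ‖π'‖ ^ e) (hres : ResFull N) (x : Ω) (hx : x ∈ N') (ε : ℝ) (hε : 0 < ε) :
    ∃ v ∈ Submodule.span N (Set.range fun i : Fin e => π' ^ (i : ℕ)), ‖x - v‖ < ε := by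
  have key : ∀ k : ℕ, ∃ v ∈ Submodule.span N (Set.range fun i : Fin e => π' ^ (i : ℕ)),
      ‖x - v‖ ≤ ‖π'‖ ^ k * ‖x‖ ∧ v ∈ N' := by
    intro k
    induction k with
    | zero => exact ⟨0, Submodule.zero_mem _, by simp, N'.zero_mem⟩
    | succ k ih =>
      obtain ⟨v, hv, hxv, hvN⟩ := ih
      obtain ⟨u, hu, hxu, huN⟩ := exists_step hN hπ hd hπ' hd' he hres (x - v) (N'.sub_mem hx hvN)
      refine ⟨v + u, Submodule.add_mem _ hv hu, ?_, N'.add_mem hvN huN⟩
      rw [← sub_sub]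
      refine hxu.trans ?_
      rw [pow_succ']
      calc ‖π'‖ * ‖x - v‖ ≤ ‖π'‖ * (‖π'‖ ^ k * ‖x‖) := mul_le_mul_of_nonneg_left hxv (norm_nonneg _)
        _ = ‖π'‖ * ‖π'‖ ^ k * ‖x‖ := by ring
  obtain ⟨k, hk⟩ := exists_pow_lt_of_lt_one (show (0 : ℝ) < ε / (‖x‖ + 1) by positivity) hd'.2.1
  obtain ⟨v, hv, hxv, -⟩ := key k
  refine ⟨v, hv, hxv.trans_lt ?_⟩
  have h4 : (0 : ℝ) < ‖x‖ + 1 := by positivity
  rw [lt_div_iff₀ h4] at hk
  refine lt_of_le_of_lt ?_ hk
  exact mul_le_mul_of_nonneg_left (by linarith [norm_nonneg x]) (by positivity)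

omit [CharP Ω 2] in
/-- `N' = span_N (1, π', …, π'^(e-1))` -/
theorem mem_span {N N' : Subfield Ω} (hK : C.K ≤ N) (hN : N ≤ N')
    (hsep : ∀ x ∈ N', IsSeparable N x) {π π' : Ω} (hπ : π ∈ N) (hd : Disc N π) (hπ' : π' ∈ N')
    (hd' : Disc N' π') {e : ℕ} (he : ‖π‖ = ‖π'‖ ^ e) (hres : ResFull N) (x : Ω) (hx : x ∈ N') :
    x ∈ Submodule.span N (Set.range fun i : Fin e => π' ^ (i : ℕ)) := by
  let E : IntermediateField N Ω := IntermediateField.adjoin N {π', x}
  have hsep' : ∀ y ∈ ({π', x} : Set Ω), IsSeparable N y := by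
    intro y hy
    rcases hy with rfl | rfl
    · exact hsep _ hπ'
    · exact hsep _ hx
  have h1 : Algebra.IsSeparable N E := by
    rw [IntermediateField.isSeparable_adjoin_iff_isSeparable]
    exact hsep'
  have h2 : FiniteDimensional N E :=
    IntermediateField.finiteDimensional_adjoin fun y hy => (hsep' y hy).isIntegral
  have hEN : ∀ y ∈ E, y ∈ N' := by
    have h3 : E ≤ Subfield.extendScalars hN := by
      rw [IntermediateField.adjoin_le_iff]
      rintro y (rfl | rfl)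
      · exact hπ'
      · exact hx
    exact fun y hy => h3 hy
  have hπE : π' ∈ E := IntermediateField.subset_adjoin _ _ (Set.mem_insert _ _)
  have hxE : x ∈ E := IntermediateField.subset_adjoin _ _ (Set.mem_insert_of_mem _ rfl)
  refine mem_of_dense C hK E _ ?_ ?_ x hxE
  · intro v hv
    have h3 : Submodule.span N (Set.range fun i : Fin e => π' ^ (i : ℕ)) ≤ E.toSubalgebra.toSubmodule := by
      rw [Submodule.span_le]
      rintro _ ⟨i, rfl⟩
      exact pow_mem hπE _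
    exact h3 hv
  · intro y hy ε hε
    exact exists_approx hN hπ hd hπ' hd' he hres y (hEN y hy) ε hε

set_option linter.unusedVariables false in
set_option linter.unusedSectionVars false in
theorem N8_sep {N N' : Subfield Ω} (hK : C.K ≤ N) (hN : N ≤ N') (hfin : N.relfinrank N' ≠ 0)
    (hsep : ∀ x ∈ N', IsSeparable N x) {π π' : Ω} (hπ : π ∈ N) (hd : Disc N π) (hπ' : π' ∈ N')
    (hd' : Disc N' π') {e : ℕ} (he : ‖π‖ = ‖π'‖ ^ e) (hres : ResFull N) : N.relfinrank N' ≤ e := by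
  rw [Subfield.relfinrank_eq_finrank_of_le hN]
  have h1 : (Subfield.extendScalars hN).toSubalgebra.toSubmodule ≤
      Submodule.span N (Set.range fun i : Fin e => π' ^ (i : ℕ)) := fun x hx =>
    mem_span C hK hN hsep hπ hd hπ' hd' he hres x hx
  have h2 : Module.Finite N (Submodule.span N (Set.range fun i : Fin e => π' ^ (i : ℕ))) :=
    Module.Finite.span_of_finite N (Set.finite_range _)
  refine (Submodule.finrank_mono h1).trans ?_
  have h3 := finrank_range_le_card (R := N) (fun i : Fin e => π' ^ (i : ℕ))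
  rw [Set.finrank, Fintype.card_fin] at h3
  exact h3

set_option linter.unusedSectionVars false in
/-- infinite separable algebraic extensions: finite as soon as the value group is discrete -/
theorem N8_fin {N N' : Subfield Ω} (hK : C.K ≤ N) (hN : N ≤ N')
    (hsep : ∀ x ∈ N', IsSeparable N x) {π π' : Ω} (hπ : π ∈ N) (hd : Disc N π) (hπ' : π' ∈ N')
    (hd' : Disc N' π') (hres : ResFull N) : FinExt N N' := by
  obtain ⟨n, hn⟩ := hd'.2.2 π (hN hπ) (norm_pos_iff.1 hd.1)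
  have hn0 : 0 ≤ n := by
    by_contra hneg
    push Not at hneg
    have h1 : (1 : ℝ) < ‖π'‖ ^ n := one_lt_zpow_of_neg₀ hd'.1 hd'.2.1 hneg
    rw [← hn] at h1
    exact absurd h1 (not_lt.2 hd.2.1.le)
  obtain ⟨e, rfl⟩ := Int.eq_ofNat_of_zero_le hn0
  have he : ‖π‖ = ‖π'‖ ^ e := by rw [hn]; exact zpow_natCast _ _
  refine ⟨{π'}, ?_, ?_⟩
  · intro s hs
    rw [Finset.mem_singleton] at hs
    subst hs
    exact (hsep _ hπ').isIntegral.isAlgebraic
  · apply le_antisymm
    · intro x hx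
      have h1 := mem_span C hK hN hsep hπ hd hπ' hd' he hres x hx
      have h2 : ∀ y ∈ Submodule.span N (Set.range fun i : Fin e => π' ^ (i : ℕ)),
          y ∈ N ⊔ Subfield.closure (({π'} : Finset Ω) : Set Ω) := by
        intro y hy
        induction hy using Submodule.span_induction with
        | mem z hz =>
          obtain ⟨i, rfl⟩ := hz
          exact pow_mem ((le_sup_right : _ ≤ N ⊔ Subfield.closure (({π'} : Finset Ω) : Set Ω))
            (Subfield.subset_closure (by simp))) _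
        | zero => exact zero_mem _
        | add u v _ _ hu hv => exact add_mem hu hv
        | smul c v _ hv =>
          rw [Subfield.smul_def, smul_eq_mul]
          exact mul_mem ((le_sup_left : N ≤ _) c.2) hv
      exact h2 x h1
    · rw [sup_le_iff, Subfield.closure_le]
      refine ⟨hN, ?_⟩
      intro y hy
      rw [Finset.coe_singleton, Set.mem_singleton_iff] at hy
      subst hy
      exact hπ'

end Groth.Agent.EtAlg.K458.RefN8
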